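import Cfsg.Agent.H25.Fi23.Group
import Cfsg.Agent.H83.Fi23Mult.Data

/-!
Deciding word identities in `Fi23` on the base of its stabiliser chain.
-/

set_option autoImplicit false

namespace Cfsg.Agent.H83.Fi23Mult

open Cfsg.Agent.H25.Fi23
open Cfsg.Agent.H45 (evalW evalW_append)

/-- an element of a group of the order of the chain fixing all bases is trivial -/
theorem eq_one_of_base {C : Cert} (hC : C.OK) : ∀ {lvs : List Lvl}, chainCheck C lvs = true →
    ∀ Y : Subgroup (Equiv.Perm (Fin C.n)), (∀ lv ∈ lvs, ∀ l ∈ lv.ls, sg hC l ∈ Y) →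
      Nat.card Y ≤ chainProd lvs → ∀ y ∈ Y,
        (∀ lv ∈ lvs, ∀ x : Fin C.n, (x : ℕ) = lv.base → y x = x) → y = 1 := by
  intro lvs
  induction lvs with
  | nil =>
    intro _ Y _ hcard y hy _
    exact Subgroup.mem_bot.1 (Y.eq_bot_of_card_le hcard ▸ hy)
  | cons lv rest ih =>
    intro h Y hY hcard y hy hfix
    have hlet := chainCheck_letters h
    simp only [chainCheck, Bool.and_eq_true] at h
    obtain ⟨⟨⟨-, hb'⟩, horb⟩, hrest⟩ := h
    obtain ⟨hb, hcount⟩ := orbLow_sound hC (hlet lv List.mem_cons_self) horb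
    let b : Fin C.n := ⟨lv.base, hb⟩
    refine ih hrest (Y ⊓ MulAction.stabilizer _ b) (fun lv' hlv' g hg => Subgroup.mem_inf.mpr
      ⟨hY lv' (List.mem_cons_of_mem _ hlv') g hg, ?_⟩) ?_ y
      (Subgroup.mem_inf.mpr ⟨hy, ?_⟩) fun lv' hlv' => hfix lv' (List.mem_cons_of_mem _ hlv')
    · have h2 := (List.all_eq_true.mp ((List.all_eq_true.mp hb') lv' hlv')) g hg
      simp only [Nat.beq_eq] at h2
      rw [MulAction.mem_stabilizer_iff, Equiv.Perm.smul_def]
      apply Fin.ext
      rw [sg_apply hC (hlet lv' (List.mem_cons_of_mem _ hlv') g hg)]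
      exact h2
    · have h2 : Nat.card (MulAction.orbit Y b) * Nat.card (MulAction.stabilizer Y b) = Nat.card Y := by
        rw [← Nat.card_prod]
        exact Nat.card_congr (MulAction.orbitProdStabilizerEquivGroup Y b)
      have h3 : Nat.card (MulAction.stabilizer Y b) =
          Nat.card (Y ⊓ MulAction.stabilizer (Equiv.Perm (Fin C.n)) b : Subgroup _) :=
        Nat.card_congr ⟨fun x => ⟨x.1.1, x.1.2, x.2⟩, fun x => ⟨⟨x.1, x.2.1⟩, x.2.2⟩,
          fun _ => rfl, fun _ => rfl⟩
      have hpos : 0 < lv.count := by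
        have : 0 < chainProd (lv :: rest) := lt_of_lt_of_le Nat.card_pos hcard
        simp only [chainProd] at this
        exact Nat.pos_of_ne_zero fun h0 => by simp [h0] at this
      have h4 := (Nat.mul_le_mul_right (Nat.card (MulAction.stabilizer Y b))
        (hcount Y fun g hg => hY lv List.mem_cons_self g hg)).trans (h2.le.trans hcard)
      rw [h3] at h4
      exact Nat.le_of_mul_le_mul_left h4 hpos
    · exact hfix lv List.mem_cons_self b rfl

theorem card_map_le {G K : Type*} [Group G] [Group K] [Finite G] (f : G →* K) (A : Subgroup G)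
    {m : ℕ} (h : Nat.card A ≤ m) : Nat.card (A.map f) ≤ m := by
  refine le_trans ?_ h
  exact Nat.card_le_card_of_surjective (fun a : A => (⟨f a, Subgroup.mem_map_of_mem f a.2⟩ : A.map f))
    (by rintro ⟨_, x, hx, rfl⟩; exact ⟨⟨x, hx⟩, rfl⟩)

/-- the point of a coset given by a word -/
noncomputable def pointOf (u : List ℕ) : ℕ := walkV C31671.cert.t u.reverse 0

/-- all letters of a word are generators -/
def okW (w : List ℕ) : Bool := w.all fun l => Nat.blt l 10

/-- all bases are fixed by a word -/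
noncomputable def fixBases (w : List ℕ) : Bool :=
  okW w && bases.all fun b => walk C31671.cert.t w b fun q => Nat.beq q b

/-- two words agree on the bases -/
noncomputable def sameW (u v : List ℕ) : Bool := fixBases (u ++ v.reverse)

/-- two words lead to one coset -/
noncomputable def sameP (u v : List ℕ) : Bool :=
  okW u && (okW v && Nat.beq (pointOf u) (pointOf v))

theorem okW_iff {w : List ℕ} : okW w = true ↔ ∀ l ∈ w, l < 10 := by
  simp [okW, List.all_eq_true, Nat.blt_eq]

theorem bases_eq : (C31671.chain.all fun lv => decide (lv.base ∈ bases)) = true := by decide +kernel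

theorem hLetters_eq : (C31671.chain.all fun lv => lv.ls.all fun l => decide (l ∈ hLetters)) = true := by
  decide +kernel

theorem evalW_eq_one {w : List ℕ} (h : fixBases w = true) : evalW pres.e w = 1 := by
  obtain ⟨hfin, -, φ, hA, hinj, hfix, F, hF0, hF⟩ := order_facts
  have := hfin
  simp only [fixBases, Bool.and_eq_true, okW_iff, List.all_eq_true, walk_eq, Nat.beq_eq] at h
  obtain ⟨hw, hwalk⟩ := h
  have hw' : ∀ l ∈ w, l < C31671.cert.L := hw
  have key : ∀ x : Fin C31671.cert.n, (x : ℕ) ∈ bases → φ (evalW pres.e w) x = x := by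
    intro x hx
    have h1 : (φ (evalW pres.e w))⁻¹ x = x := by
      apply Fin.ext
      rw [hA.evalW w hw', sg_walk _ w hw']
      exact hwalk _ hx
    rw [Equiv.Perm.inv_def, Equiv.symm_apply_eq] at h1
    exact h1.symm
  have hgH : evalW pres.e w ∈ H := by
    have h1 : F (evalW pres.e w • QuotientGroup.mk (1 : X)) = F (QuotientGroup.mk (1 : X)) := by
      rw [hF, hF0]
      exact key ⟨0, n_pos⟩ List.mem_cons_self
    have h2 := QuotientGroup.eq.mp (F.injective h1).symm
    simpa using h2
  apply hinj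
  rw [map_one]
  refine eq_one_of_base C31671.cert_ok C31671.chain_ok (H.map φ) (fun lv hlv l hl => ?_) ?_ _
    ⟨_, hgH, rfl⟩ fun lv hlv x hx => key x ?_
  · refine ⟨pres.e l, Subgroup.subset_closure ⟨l, of_decide_eq_true
      (List.all_eq_true.mp (List.all_eq_true.mp hLetters_eq lv hlv) l hl), rfl⟩, ?_⟩
    exact hA.map l (chainCheck_letters C31671.chain_ok lv hlv l hl)
  · rw [C31671.chain_prod]
    exact card_map_le φ H bound_h.2
  · rw [hx]; exact of_decide_eq_true (List.all_eq_true.mp bases_eq lv hlv)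

theorem evalW_eq {u v : List ℕ} (h : sameW u v = true) : evalW pres.e u = evalW pres.e v := by
  have := evalW_eq_one h
  rwa [evalW_append, evalW_reverse, mul_inv_eq_one] at this

theorem mk_eq {u v : List ℕ} (h : sameP u v = true) :
    (evalW pres.e u)⁻¹ * evalW pres.e v ∈ H := by
  obtain ⟨φ, hA, -, F, hF0, hF⟩ := index_facts
  simp only [sameP, Bool.and_eq_true, okW_iff, Nat.beq_eq, pointOf] at h
  obtain ⟨hu, hv, hp⟩ := h
  have key : ∀ w : List ℕ, (∀ l ∈ w, l < C31671.cert.L) →
      (F (QuotientGroup.mk (evalW pres.e w)) : ℕ) = walkV C31671.cert.t w.reverse 0 := by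
    intro w hw
    have h1 := hF (evalW pres.e w) (QuotientGroup.mk (1 : X))
    rw [hF0, MulAction.Quotient.smul_mk, smul_eq_mul, mul_one] at h1
    have hw' : ∀ l ∈ w.reverse, l < C31671.cert.L := fun l hl => hw l (List.mem_reverse.1 hl)
    have h2 : φ (evalW pres.e w) = (evalW (sg C31671.cert_ok) w.reverse)⁻¹ := by
      rw [← hA.evalW _ hw', evalW_reverse, map_inv, inv_inv]
    rw [h1, h2, sg_walk _ _ hw']
  apply QuotientGroup.eq.mp
  apply F.injective
  apply Fin.ext
  rw [key u hu, key v hv, hp]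

end Cfsg.Agent.H83.Fi23Mult
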