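import Cfsg.Agent.H83.Fi23Mult.Base

/-!
The checks on the generated words.
-/

set_option autoImplicit false
set_option Elab.async false
set_option maxRecDepth 100000

namespace Cfsg.Agent.H83.Fi23Mult

open Cfsg.Agent.H25.Fi23

/-- the edges of the diagram -/
def edgeB (x y : ℕ) : Bool :=
  decide ((x, y) ∈ [(0, 1), (1, 2), (2, 3), (3, 4), (3, 8), (4, 5), (5, 6), (6, 7), (8, 9),
    (1, 0), (2, 1), (3, 2), (4, 3), (8, 3), (5, 4), (6, 5), (7, 6), (9, 8)])

/-- conjugator of a generator -/
def uOf (l : ℕ) : List ℕ := wU.getD l []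

/-- the word of a transposition -/
def twd (u : List ℕ) : List ℕ := u ++ wT ++ u.reverse

/-- the first relator -/
def wR1 : List ℕ := (List.replicate 10 C31671.wordA).flatten

/-- the second relator -/
def wR2 : List ℕ := (List.replicate 9 C31671.wordB).flatten

/-- the conjugate reflection -/
def wRth : List ℕ := wC ++ [kC] ++ wC.reverse

/-- a braid relation cubed -/
def wT3 : List ℕ := [9] ++ wRth ++ ([9] ++ wRth ++ ([9] ++ wRth))

/-- a commutator -/
def wCC : List ℕ := wD.reverse ++ wG.reverse ++ wD ++ wG

/-- the first relator times conjugates -/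
def wBig : List ℕ := wR1.reverse ++ wP ++ wCC ++ wP.reverse ++ wP2 ++ wT3 ++ wP2.reverse

/-- all braid moves -/
def moveRules : List (List ℕ × List ℕ) :=
  ((List.range 10).map fun x => ([x, x], [])) ++
    (List.range 10).flatMap fun x => ((List.range 10).filter fun y => x != y).map fun y =>
      if edgeB x y then ([x, y, x], [y, x, y]) else ([x, y], [y, x])

theorem t_sq_ok : sameW (wT ++ wT) [] = true := by decide +kernel

theorem t_comm_ok : (hLetters.all fun h => sameW (wT ++ [h]) ([h] ++ wT)) = true := by decide +kernel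

theorem gen_ok : ((List.range 10).all fun l => sameW (twd (uOf l)) [l]) = true := by decide +kernel

theorem cox_ok : ((List.range 10).all fun x => (List.range 10).all fun y =>
    if edgeB x y then sameP ([x, y] ++ uOf x) (uOf y) else sameP ([x] ++ uOf y) (uOf y)) = true := by
  decide +kernel

theorem t3_ok : sameP ([9] ++ wRth ++ uOf 9) (wC ++ uOf kC) = true := by decide +kernel

theorem fix_ok : (wF.all fun u => sameP (wG ++ u) u) = true := by decide +kernel

theorem prod_ok : sameW wD (wF.flatMap twd) = true := by decide +kernel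

theorem lt_ok : okW wBig = true ∧ okW wC = true ∧ okW wG = true ∧ okW wD = true ∧ okW wP = true ∧
    okW wP2 = true ∧ kC < 10 := by decide +kernel

theorem connected_ok : ([(0, 1), (1, 2), (2, 3), (3, 4), (3, 8), (4, 5), (5, 6), (8, 9)].all
    fun p => decide (p.1 ∈ hLetters) && (decide (p.2 ∈ hLetters) &&
      decide ([p.1, p.2, p.1, p.2, p.1, p.2] ∈ pres.R))) = true := by decide +kernel

theorem steps1_ok : rwAll moveRules steps1 wBig (fun w => w.isEmpty) = true := by decide +kernel

theorem steps2_ok : rwAll moveRules steps2 (wR2 ++ wR2) (fun w => w.isEmpty) = true := by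
  decide +kernel

theorem wR2_mem : wR2 ∈ pres.R ∧ (wR2.all fun l => decide (l ∈ hLetters)) = true ∧
    wR2.length = 63 := by decide +kernel

end Cfsg.Agent.H83.Fi23Mult
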