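import Cfsg.Agent.H83.Fi23Mult.Checks
import Cfsg.Prelude.Def_KGroupFacts
import Cfsg.Agent.H74.SchurPerfect

/-!
An involution over the transposition which commutes with every lift of its point stabiliser.
-/

set_option autoImplicit false

namespace Cfsg.Agent.H83.Fi23Mult

open Cfsg.Agent.H25.Fi23
open Cfsg.Agent.H45 (evalW evalW_append evalW_cons evalW_nil)
open scoped commutatorElement
open Subgroup

/-- the transposition -/
noncomputable def t0 : X := evalW pres.e wT

theorem t0_sq : t0 * t0 = 1 := by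
  have := evalW_eq t_sq_ok
  rwa [evalW_append, evalW_nil] at this

theorem H_le_centralizer : H ≤ centralizer {t0} := by
  refine (Subgroup.closure_le _).2 ?_
  rintro _ ⟨l, hl, rfl⟩
  rw [SetLike.mem_coe, mem_centralizer_singleton_iff]
  have := evalW_eq (List.all_eq_true.mp t_comm_ok l hl)
  rw [evalW_append, evalW_append] at this
  simp only [evalW, List.map_cons, List.map_nil, List.prod_cons, List.prod_nil, mul_one] at this
  exact this.symm

variable {Γ : Type} [Group Γ] {σ : Γ →* X}

theorem commute_lift (hσ : Cfsg.IsStemExtension σ) (t : Γ) (ht : σ t = t0) :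
    ∀ x : Γ, σ x ∈ H → Commute x t := by
  have cen : ∀ z, σ z = 1 → ∀ x : Γ, x * z = z * x := fun z hz x =>
    mem_center_iff.1 (hσ.2.1 hz) x
  choose s hs using hσ.1
  have hswap : ∀ x : Γ, ⁅t, s (σ x)⁆ = ⁅t, x⁆ := fun x => by
    have h1 : x⁻¹ * s (σ x) ∈ center Γ := hσ.2.1 (by
      rw [MonoidHom.mem_ker, map_mul, map_inv, hs, inv_mul_cancel])
    have h := Cfsg.Agent.H74.Schur.commutatorElement_mul_central (a := t) (b := x) (one_mem (center Γ)) h1
    rw [mul_one, mul_inv_cancel_left, ← commutatorElement_def, ← commutatorElement_def] at h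
    exact h
  have hker : ∀ h : H, σ ⁅t, s h⁆ = 1 := fun h => by
    rw [map_commutatorElement, ht, hs, commutatorElement_eq_one_iff_mul_comm]
    exact (mem_centralizer_singleton_iff.1 (H_le_centralizer h.2)).symm
  let ψ : H →* Γ :=
    { toFun := fun h => ⁅t, s h⁆
      map_one' := by
        have := hswap 1
        rw [map_one] at this
        rw [Subgroup.coe_one, this, commutatorElement_one_right]
      map_mul' := fun a b => by
        have h1 := hswap (s a * s b)
        rw [map_mul, hs, hs] at h1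
        have hb := cen _ (hker b) (s a)
        rw [Subgroup.coe_mul, h1]
        calc ⁅t, s a * s b⁆ = ⁅t, s a⁆ * (s a * ⁅t, s b⁆ * (s a)⁻¹) := by
              simp only [commutatorElement_def]; group
          _ = ⁅t, s a⁆ * ⁅t, s b⁆ := by rw [hb, mul_inv_cancel_right] }
  have hcom : ∀ a b : H, ψ a * ψ b = ψ b * ψ a := fun a b => cen _ (hker b) (ψ a)
  have hmem : ∀ l ∈ hLetters, pres.e l ∈ H := fun l hl => subset_closure ⟨l, hl, rfl⟩
  let v : ℕ → Γ := fun l => if h : l ∈ hLetters then ψ ⟨pres.e l, hmem l h⟩ else 1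
  have hsq : ∀ l, v l * v l = 1 := by
    intro l
    simp only [v]
    split
    · rw [← map_mul, ← map_one ψ]
      exact congrArg ψ (Subtype.ext (pres_sq l))
    · rw [one_mul]
  have hword : ∀ w : List ℕ, (∀ l ∈ w, l ∈ hLetters) →
      ∃ h : evalW pres.e w ∈ H, ψ ⟨_, h⟩ = evalW v w := by
    intro w
    induction w with
    | nil => intro _; exact ⟨one_mem _, map_one ψ⟩
    | cons l w ih =>
      intro hw
      obtain ⟨h, he⟩ := ih fun x hx => hw x (List.mem_cons_of_mem _ hx)
      have hl := hw l List.mem_cons_self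
      have h' : evalW pres.e (l :: w) ∈ H := by
        rw [evalW_cons]; exact mul_mem (hmem l hl) h
      refine ⟨h', ?_⟩
      rw [evalW_cons v l w, ← he]
      simp only [v, dif_pos hl, ← map_mul]
      exact congrArg ψ (Subtype.ext (evalW_cons pres.e l w))
  have hrel : ∀ w ∈ pres.R, (∀ l ∈ w, l ∈ hLetters) → evalW v w = 1 := by
    intro w hw hl
    obtain ⟨h, he⟩ := hword w hl
    rw [← he, ← map_one ψ]
    exact congrArg ψ (Subtype.ext (pres_ok.rel w hw))
  have hedge : ∀ p ∈ [(0, 1), (1, 2), (2, 3), (3, 4), (3, 8), (4, 5), (5, 6), (8, 9)],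
      v p.1 = v p.2 := by
    intro p hp
    have h := List.all_eq_true.mp connected_ok p hp
    simp only [Bool.and_eq_true, decide_eq_true_eq] at h
    obtain ⟨h1, h2, h3⟩ := h
    have h4 := hrel _ h3 (by simp [h1, h2])
    have hc : Commute (v p.1) (v p.2) := by
      simp only [Commute, SemiconjBy, v, dif_pos h1, dif_pos h2]
      exact hcom _ _
    have h5 : (v p.1 * v p.2) * (v p.1 * v p.2) = 1 := by
      rw [← mul_assoc, mul_assoc (v p.1), ← hc.eq, ← mul_assoc (v p.1), hsq, one_mul, hsq]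
    simp only [evalW, List.map_cons, List.map_nil, List.prod_cons, List.prod_nil, mul_one] at h4
    have h6 : v p.1 * v p.2 = 1 := by
      rw [← mul_assoc, ← mul_assoc, ← mul_assoc, ← mul_assoc, mul_assoc (v p.1 * v p.2), h5,
        one_mul] at h4
      exact h4
    rw [← inv_eq_of_mul_eq_one_left h6]
    exact inv_eq_of_mul_eq_one_right (hsq p.2)
  have hv : ∀ l ∈ hLetters, v l = v 0 := by
    have e01 := hedge (0, 1) (by simp)
    have e12 := hedge (1, 2) (by simp)
    have e23 := hedge (2, 3) (by simp)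
    have e34 := hedge (3, 4) (by simp)
    have e38 := hedge (3, 8) (by simp)
    have e45 := hedge (4, 5) (by simp)
    have e56 := hedge (5, 6) (by simp)
    have e89 := hedge (8, 9) (by simp)
    intro l hl
    simp only [hLetters, List.mem_cons, List.not_mem_nil, or_false] at hl
    rcases hl with rfl | rfl | rfl | rfl | rfl | rfl | rfl | rfl | rfl <;> simp_all
  have hpow : ∀ w : List ℕ, (∀ l ∈ w, l ∈ hLetters) → evalW v w = v 0 ^ w.length := by
    intro w
    induction w with
    | nil => intro _; simp [evalW]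
    | cons l w ih =>
      intro hw
      rw [evalW_cons, ih fun x hx => hw x (List.mem_cons_of_mem _ hx), hv l (hw l List.mem_cons_self),
        List.length_cons, pow_succ']
  have hv0 : v 0 = 1 := by
    obtain ⟨h1, h2, h3⟩ := wR2_mem
    have hl : ∀ l ∈ wR2, l ∈ hLetters := fun l hl =>
      of_decide_eq_true (List.all_eq_true.mp h2 l hl)
    have h4 := hpow wR2 hl
    rw [hrel wR2 h1 hl, h3, show 63 = 2 * 31 + 1 from rfl, pow_succ, pow_mul, pow_two, hsq, one_pow,
      one_mul] at h4
    exact h4.symm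
  intro x hx
  have hψ : ∀ g (hg : g ∈ H), ψ ⟨g, hg⟩ = 1 := by
    intro g hg
    induction hg using Subgroup.closure_induction with
    | mem g hg =>
      obtain ⟨l, hl, rfl⟩ := hg
      have h := hv l hl
      rw [hv0] at h
      simpa only [v, dif_pos hl] using h
    | one => exact map_one ψ
    | mul a b ha hb iha ihb =>
      rw [show (⟨a * b, mul_mem ha hb⟩ : H) = ⟨a, ha⟩ * ⟨b, hb⟩ from rfl, map_mul, iha, ihb, one_mul]
    | inv a ha iha =>
      rw [show (⟨a⁻¹, inv_mem ha⟩ : H) = (⟨a, ha⟩ : H)⁻¹ from rfl, map_inv, iha, inv_one]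
  have h := hψ (σ x) hx
  exact (commutatorElement_eq_one_iff_mul_comm.1 ((hswap x).symm.trans h)).symm

/-- a group over `X` with an involution over the transposition -/
structure Cover (Y : Type) [Group Y] where
  π : Y →* X
  surj : Function.Surjective π
  central : π.ker ≤ center Y
  T : Y
  T_sq : T * T = 1
  π_T : π T = t0
  comm : ∀ y, π y ∈ H → Commute y T
  χ : Y →* Multiplicative (ZMod 2)
  χ_T : χ T = Multiplicative.ofAdd 1

theorem exists_cover [Finite Γ] (hσ : Cfsg.IsStemExtension σ) :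
    ∃ (Y : Type) (_ : Group Y) (D : Cover Y) (ι : Γ →* Y),
      Function.Injective ι ∧ ∀ x, D.π (ι x) = σ x := by
  obtain ⟨t, ht⟩ := hσ.1 t0
  have hcomm := commute_lift hσ t ht
  set a := t * t with ha
  have hak : σ a = 1 := by rw [ha, map_mul, ht, t0_sq]
  have cen : ∀ z, σ z = 1 → ∀ x : Γ, x * z = z * x := fun z hz x =>
    mem_center_iff.1 (hσ.2.1 hz) x
  set d := orderOf a with hd
  have hdpos : 0 < d := orderOf_pos a
  have : NeZero (2 * d) := ⟨by omega⟩
  let c : Multiplicative (ZMod (2 * d)) := Multiplicative.ofAdd 1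
  have hcord : orderOf c = 2 * d := by rw [orderOf_ofAdd_eq_addOrderOf, ZMod.addOrderOf_one]
  set N : Subgroup (Γ × Multiplicative (ZMod (2 * d))) := zpowers (a, c ^ 2) with hN
  have hNn : N.Normal := by
    refine ⟨fun x hx y => ?_⟩
    obtain ⟨i, rfl⟩ := hx
    have : Commute y ((a, c ^ 2) ^ i) :=
      Commute.zpow_right (Prod.ext (cen a hak y.1) (mul_comm _ _)) i
    show y * (a, c ^ 2) ^ i * y⁻¹ ∈ N
    rw [this.eq, mul_inv_cancel_right]
    exact zpow_mem_zpowers _ _
  let q := QuotientGroup.mk' N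
  have hq : q (a, c ^ 2) = 1 := (QuotientGroup.eq_one_iff _).2 (mem_zpowers _)
  have hπN : N ≤ (σ.comp (MonoidHom.fst Γ (Multiplicative (ZMod (2 * d))))).ker := by
    rw [hN, zpowers_le]; exact hak
  let f : Multiplicative (ZMod (2 * d)) →* Multiplicative (ZMod 2) :=
    AddMonoidHom.toMultiplicative (ZMod.castHom (dvd_mul_right 2 d) (ZMod 2)).toAddMonoidHom
  have hfc : f c = Multiplicative.ofAdd 1 := congrArg Multiplicative.ofAdd (map_one (ZMod.castHom (dvd_mul_right 2 d) (ZMod 2)))
  have hχN : N ≤ (f.comp (MonoidHom.snd Γ (Multiplicative (ZMod (2 * d))))).ker := by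
    rw [hN, zpowers_le, MonoidHom.mem_ker, MonoidHom.comp_apply]
    show f (c ^ 2) = 1
    rw [map_pow, hfc]; decide
  refine ⟨_, inferInstance, ⟨QuotientGroup.lift N _ hπN, fun x => ?_, fun y hy => ?_, q (t, c), ?_,
    ht, fun y hy => ?_, QuotientGroup.lift N _ hχN, hfc⟩, q.comp (MonoidHom.inl _ _), ?_,
    fun x => rfl⟩
  · obtain ⟨g, rfl⟩ := hσ.1 x
    exact ⟨q (g, 1), rfl⟩
  · obtain ⟨⟨x, n⟩, rfl⟩ := QuotientGroup.mk'_surjective N y
    refine mem_center_iff.2 fun u => ?_
    obtain ⟨⟨x', n'⟩, rfl⟩ := QuotientGroup.mk'_surjective N u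
    rw [← map_mul, ← map_mul, Prod.mk_mul_mk, Prod.mk_mul_mk, cen x hy x', mul_comm n']
  · rw [← map_mul, Prod.mk_mul_mk, ← pow_two c]; exact hq
  · obtain ⟨⟨x, n⟩, rfl⟩ := QuotientGroup.mk'_surjective N y
    exact Commute.map (Prod.ext (hcomm x hy).eq (mul_comm _ _) : Commute (x, n) (t, c)) q
  · rw [injective_iff_map_eq_one]
    intro x hx
    obtain ⟨i, hi⟩ := (QuotientGroup.eq_one_iff _).1 (show q (x, 1) = 1 from hx)
    have h1 : a ^ i = x := congrArg Prod.fst hi
    have h2 : (c ^ 2) ^ i = 1 := congrArg Prod.snd hi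
    rw [← zpow_natCast, ← zpow_mul, ← orderOf_dvd_iff_zpow_eq_one, hcord] at h2
    have h3 : (d : ℤ) ∣ i := by
      push_cast at h2
      exact (mul_dvd_mul_iff_left (two_ne_zero)).1 h2
    rw [← h1, ← orderOf_dvd_iff_zpow_eq_one]
    exact h3

end Cfsg.Agent.H83.Fi23Mult
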