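import Cfsg.Agent.H83.Fi23Mult.Cover

/-!
Lifts of the ten generators as transpositions, and the relators they satisfy.
-/

set_option autoImplicit false

namespace Cfsg.Agent.H83.Fi23Mult

open Cfsg.Agent.H25.Fi23
open Cfsg.Agent.H45 (evalW evalW_append evalW_cons evalW_nil)
open Subgroup

variable {Y : Type} [Group Y] (D : Cover Y)

/-- the lifted transposition of a word -/
noncomputable def Lw (u : List ℕ) : Y :=
  Function.surjInv D.surj (evalW pres.e u) * D.T * (Function.surjInv D.surj (evalW pres.e u))⁻¹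

theorem pi_lift (g : X) : D.π (Function.surjInv D.surj g) = g := Function.surjInv_eq D.surj g

theorem conj_T_eq {y y' : Y} (h : (D.π y)⁻¹ * D.π y' ∈ H) : y * D.T * y⁻¹ = y' * D.T * y'⁻¹ := by
  have h1 := D.comm (y⁻¹ * y') (by rwa [map_mul, map_inv])
  calc y * D.T * y⁻¹ = y * (D.T * (y⁻¹ * y')) * y'⁻¹ := by group
    _ = y * ((y⁻¹ * y') * D.T) * y'⁻¹ := by rw [h1.eq]
    _ = y' * D.T * y'⁻¹ := by group

theorem Lw_congr {u v : List ℕ} (h : sameP u v = true) : Lw D u = Lw D v :=
  conj_T_eq D (by rw [pi_lift, pi_lift]; exact mk_eq h)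

theorem Lw_conj {y : Y} {w : List ℕ} (hy : D.π y = evalW pres.e w) (u : List ℕ) :
    y * Lw D u * y⁻¹ = Lw D (w ++ u) := by
  have h := conj_T_eq D (y := y * Function.surjInv D.surj (evalW pres.e u))
    (y' := Function.surjInv D.surj (evalW pres.e (w ++ u)))
    (by rw [map_mul, pi_lift, pi_lift, hy, ← evalW_append, inv_mul_cancel]; exact one_mem _)
  rw [mul_inv_rev] at h
  simpa only [Lw, mul_assoc] using h

theorem Lw_sq (u : List ℕ) : Lw D u * Lw D u = 1 := by
  rw [Lw, ← MulAut.conj_apply, ← map_mul, D.T_sq, map_one]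

theorem pi_Lw (u : List ℕ) : D.π (Lw D u) = evalW pres.e (twd u) := by
  rw [Lw, map_mul, map_mul, map_inv, pi_lift, D.π_T, twd, evalW_append, evalW_append, evalW_reverse]
  rfl

theorem chi_Lw (u : List ℕ) : D.χ (Lw D u) = Multiplicative.ofAdd 1 := by
  rw [Lw, map_mul, map_mul, map_inv, D.χ_T, mul_comm, ← mul_assoc, inv_mul_cancel, one_mul]

/-- the lifted generators -/
noncomputable def gE (l : ℕ) : Y := if l < 10 then Lw D (uOf l) else 1

theorem gE_sq (l : ℕ) : gE D l * gE D l = 1 := by
  unfold gE; split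
  · exact Lw_sq D _
  · rw [one_mul]

theorem pi_gE {l : ℕ} (hl : l < 10) : D.π (gE D l) = pres.e l := by
  rw [gE, if_pos hl, pi_Lw, evalW_eq (List.all_eq_true.mp gen_ok l (List.mem_range.2 hl))]
  simp [evalW]

theorem pi_eval {w : List ℕ} (hw : ∀ l ∈ w, l < 10) :
    D.π (evalW (gE D) w) = evalW pres.e w := by
  induction w with
  | nil => simp [evalW]
  | cons l w ih =>
    rw [evalW_cons, evalW_cons, map_mul, pi_gE D (hw l List.mem_cons_self),
      ih fun x hx => hw x (List.mem_cons_of_mem _ hx)]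

theorem eval_rev (w : List ℕ) : evalW (gE D) w.reverse = (evalW (gE D) w)⁻¹ := by
  induction w with
  | nil => simp [evalW]
  | cons x w ih =>
    rw [List.reverse_cons, evalW_append, ih, evalW_cons (gE D) x w, mul_inv_rev,
      inv_eq_of_mul_eq_one_right (gE_sq D x)]
    simp [evalW]

theorem braid_of_conj {x y : Y} (hx : x * x = 1) (hy : y * y = 1)
    (h : x * y * x * (x * y)⁻¹ = y) : x * y * x = y * x * y := by
  rw [mul_inv_eq_iff_eq_mul] at h
  rw [h, ← mul_assoc]

theorem eval_rules : ∀ r ∈ moveRules, evalW (gE D) r.1 = evalW (gE D) r.2 := by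
  intro r hr
  simp only [moveRules, List.mem_append, List.mem_map, List.mem_range, List.mem_flatMap,
    List.mem_filter] at hr
  rcases hr with ⟨x, -, rfl⟩ | ⟨x, hx, y, ⟨hy, -⟩, rfl⟩
  · simp [evalW, gE_sq]
  have h := List.all_eq_true.mp (List.all_eq_true.mp cox_ok x (List.mem_range.2 hx)) y
    (List.mem_range.2 hy)
  cases hb : edgeB x y <;> simp only [hb, if_true, if_false, Bool.false_eq_true] at h ⊢
  · have h1 := Lw_conj D (y := gE D x) (w := [x]) (by simp [evalW, pi_gE D hx]) (uOf y)
    rw [Lw_congr D h] at h1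
    have h2 : gE D x * gE D y * (gE D x)⁻¹ = gE D y := by
      conv_lhs => arg 1; arg 2; rw [gE, if_pos hy]
      rw [h1, gE, if_pos hy]
    rw [mul_inv_eq_iff_eq_mul] at h2
    simpa [evalW] using h2
  · have h1 := Lw_conj D (y := gE D x * gE D y) (w := [x, y])
      (by simp [evalW, pi_gE D hx, pi_gE D hy]) (uOf x)
    rw [Lw_congr D h] at h1
    have h2 : gE D x * gE D y * gE D x * (gE D x * gE D y)⁻¹ = gE D y := by
      conv_lhs => arg 1; arg 2; rw [gE, if_pos hx]
      rw [h1, gE, if_pos hy]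
    have h3 := braid_of_conj (gE_sq D x) (gE_sq D y) h2
    simpa [evalW, mul_assoc] using h3

theorem eval_T3 : evalW (gE D) wT3 = 1 := by
  obtain ⟨-, hC, -, -, -, -, hk⟩ := lt_ok
  set x := evalW (gE D) wRth with hxdef
  have hx : x = Lw D (wC ++ uOf kC) := by
    rw [← Lw_conj D (pi_eval D (okW_iff.1 hC)), hxdef, wRth, evalW_append, evalW_append, eval_rev]
    simp [evalW, gE, hk]
  set a := gE D 9 with hadef
  have hw : ∀ l ∈ [9] ++ wRth, l < 10 := by
    intro l hl
    simp only [wRth, List.mem_append, List.mem_singleton, List.mem_reverse] at hl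
    rcases hl with rfl | ((hl | rfl) | hl)
    · norm_num
    · exact okW_iff.1 hC l hl
    · exact hk
    · exact okW_iff.1 hC l hl
  have h1 := Lw_conj D (pi_eval D hw) (uOf 9)
  rw [Lw_congr D t3_ok, ← hx, evalW_append, ← hxdef] at h1
  have ha : Lw D (uOf 9) = a := by rw [hadef, gE, if_pos (by norm_num)]
  rw [ha, show evalW (gE D) [9] = a by simp [evalW, a]] at h1
  have h2 := braid_of_conj (gE_sq D 9) (by rw [hx]; exact Lw_sq D _) h1
  have ha2 : a * a = 1 := gE_sq D 9
  have hx2 : x * x = 1 := by rw [hx]; exact Lw_sq D _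
  simp only [wT3, evalW_append, ← hxdef]
  rw [show evalW (gE D) [9] = a by simp [evalW, a]]
  calc a * x * (a * x * (a * x)) = (a * x * a) * (x * a * x) := by simp only [mul_assoc]
    _ = (x * a * x) * (x * a * x) := by rw [h2]
    _ = x * a * (x * x) * a * x := by simp only [mul_assoc]
    _ = x * (a * a) * x := by rw [hx2, mul_one]; simp only [mul_assoc]
    _ = 1 := by rw [ha2, mul_one, hx2]

theorem eval_CC : evalW (gE D) wCC = 1 := by
  obtain ⟨-, -, hG, hD, -, -, -⟩ := lt_ok
  set g := evalW (gE D) wG with hg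
  have hcomm : ∀ us : List (List ℕ), (∀ u ∈ us, u ∈ wF) →
      Commute g (us.map (Lw D)).prod ∧ D.π (us.map (Lw D)).prod = evalW pres.e (us.flatMap twd) := by
    intro us
    induction us with
    | nil => intro _; simp [evalW]
    | cons u us ih =>
      intro hu
      obtain ⟨h1, h2⟩ := ih fun x hx => hu x (List.mem_cons_of_mem _ hx)
      have h3 := Lw_conj D (pi_eval D (okW_iff.1 hG)) u
      rw [Lw_congr D (List.all_eq_true.mp fix_ok u (hu u List.mem_cons_self)), ← hg,
        mul_inv_eq_iff_eq_mul] at h3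
      rw [List.map_cons, List.prod_cons, List.flatMap_cons, evalW_append, map_mul, pi_Lw, h2]
      exact ⟨Commute.mul_right h3 h1, rfl⟩
  obtain ⟨h1, h2⟩ := hcomm wF fun u hu => hu
  set y := evalW (gE D) wD with hy
  have h4 : ((wF.map (Lw D)).prod)⁻¹ * y ∈ center Y := D.central (by
    rw [MonoidHom.mem_ker, map_mul, map_inv, h2, hy, pi_eval D (okW_iff.1 hD), evalW_eq prod_ok,
      inv_mul_cancel])
  have h5 : Commute g y := by
    have := Commute.mul_right h1 (show Commute g _ from mem_center_iff.1 h4 g)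
    rwa [mul_inv_cancel_left] at this
  simp only [wCC, evalW_append, eval_rev, ← hg, ← hy]
  rw [mul_assoc, ← h5.eq]
  group

theorem eval_R1 : evalW (gE D) wR1 = 1 := by
  obtain ⟨w, hw, he⟩ := rwAll_sound (eval_rules D) steps1_ok
  rw [List.isEmpty_iff] at hw
  subst hw
  simp only [wBig, evalW_append, eval_rev, eval_CC, eval_T3, evalW_nil, mul_one] at he
  simpa using he

theorem eval_R2_sq : evalW (gE D) wR2 * evalW (gE D) wR2 = 1 := by
  obtain ⟨w, hw, he⟩ := rwAll_sound (eval_rules D) steps2_ok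
  rw [List.isEmpty_iff] at hw
  subst hw
  rw [evalW_append, evalW_nil] at he
  exact he.symm

theorem chi_eval {w : List ℕ} (hw : ∀ l ∈ w, l < 10) :
    D.χ (evalW (gE D) w) = Multiplicative.ofAdd (w.length : ZMod 2) := by
  induction w with
  | nil => simp [evalW]
  | cons l w ih =>
    rw [evalW_cons, map_mul, ih fun x hx => hw x (List.mem_cons_of_mem _ hx), gE,
      if_pos (hw l List.mem_cons_self), chi_Lw, List.length_cons, ← ofAdd_add]
    congr 1
    push_cast
    ring

end Cfsg.Agent.H83.Fi23Mult
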