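import Cfsg.Agent.H83.Fi23Mult.Gens

/-!
`Fi23` has trivial multiplier.
-/

set_option autoImplicit false

namespace Cfsg.Agent.H83.Fi23Mult

open Cfsg.Spor
open Cfsg.Agent.H25.Fi23
open Cfsg.Agent.H45 (evalW evalW_append eOf ixOf)
open Subgroup

variable {Y : Type} [Group Y] (D : Cover Y)

/-- the lifts indexed by generators -/
noncomputable def gF (x : Fi23.Gen) : Y := gE D (ixOf pres.gl x)

theorem ix_lt (x : Fi23.Gen) : ixOf pres.gl x < 10 := by cases x <;> decide

theorem ix_get : ∀ l : Fin 10, ixOf pres.gl (pres.gl[(l : ℕ)]'(by rw [gl_length]; exact l.isLt)) = l := by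
  decide +kernel

theorem eOf_gF {l : ℕ} (hl : l < 10) : eOf pres.gl (gF D) l = gE D l := by
  simp only [eOf, List.getElem?_eq_getElem (show l < pres.gl.length by rw [gl_length]; exact hl),
    Option.elim_some, gF]
  rw [ix_get ⟨l, hl⟩]

theorem pi_gF (x : Fi23.Gen) : D.π (gF D x) = PresentedGroup.of x := by
  rw [gF, pi_gE D (ix_lt x)]
  exact H45.eOf_ix (pres_ok.all x)

theorem eval_gF {w : List ℕ} (hw : (w.all fun l => Nat.blt l 10) = true) :
    evalW (eOf pres.gl (gF D)) w = evalW (gE D) w :=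
  congrArg List.prod (List.map_congr_left fun l hl => eOf_gF D
    (Nat.blt_eq ▸ List.all_eq_true.mp hw l hl))

theorem cox_gF : H45.CoxHolds pres.edges (gF D) := by
  refine H45.coxHolds_of_words pres_ok.all pres_ok.check fun w hw => ?_
  have hlt : (pres.Rc.all fun w => w.all fun l => Nat.blt l 10) = true := by decide +kernel
  rw [eval_gF D (List.all_eq_true.mp hlt w hw)]
  have hr : (pres.Rc.all fun w => decide (w ∈ (List.range 10).map fun x => [x, x]) ||
      decide (∃ r ∈ moveRules, w = r.1 ++ r.2.reverse)) = true := by decide +kernel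
  have h := List.all_eq_true.mp hr w hw
  simp only [Bool.or_eq_true, decide_eq_true_eq, List.mem_map] at h
  rcases h with ⟨x, -, rfl⟩ | ⟨r, hr, rfl⟩
  · simp [evalW, gE_sq]
  · rw [evalW_append, eval_rev, eval_rules D r hr, mul_inv_cancel]

theorem ker_trivial {Γ : Type} [Group Γ] [Finite Γ] {σ : Γ →* X} (hσ : Cfsg.IsStemExtension σ)
    (z : Γ) (hz : σ z = 1) : z = 1 := by
  obtain ⟨Y, _, D, ι, hι, hπι⟩ := exists_cover hσ
  set Φ : FreeGroup Fi23.Gen →* Y := FreeGroup.lift (gF D) with hΦ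
  have hπΦ : ∀ x, D.π (Φ x) = PresentedGroup.mk _ x := by
    have : D.π.comp Φ = PresentedGroup.mk _ := FreeGroup.ext_hom _ _ fun x => by
      rw [MonoidHom.comp_apply, hΦ, FreeGroup.lift_apply_of, pi_gF]
      rfl
    exact fun x => DFunLike.congr_fun this x
  set r2 := evalW (gE D) wR2 with hr2
  have hR2 := wR2_mem
  have hlt2 : ∀ l ∈ wR2, l < 10 := by
    have : okW wR2 = true := by decide +kernel
    exact okW_iff.1 this
  have hr2c : r2 ∈ center Y := D.central (by
    rw [MonoidHom.mem_ker, hr2, pi_eval D hlt2]; exact pres_ok.rel _ hR2.1)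
  have : (zpowers r2).Normal := ⟨fun a ha g => by
    rw [mem_center_iff.1 ((zpowers_le.2 hr2c) ha) g, mul_inv_cancel_right]; exact ha⟩
  have hker : ∀ x, PresentedGroup.mk _ x = (1 : X) → Φ x ∈ zpowers r2 := by
    intro x hx
    rw [PresentedGroup.mk_eq_one_iff] at hx
    refine (Subgroup.normalClosure_le_normal (N := (zpowers r2).comap Φ) ?_) hx
    rintro r (⟨a, ha, b, hb, rfl⟩ | hr)
    · rw [SetLike.mem_coe, mem_comap, hΦ, map_pow, map_mul, FreeGroup.lift_apply_of,
        FreeGroup.lift_apply_of, cox_gF D a ha b hb]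
      exact one_mem _
    · have h1 := pres_ok.extra_eval Y (gF D) fun x => inv_eq_of_mul_eq_one_right (gE_sq D _)
      have h2 : Φ r ∈ pres.Rx.map (evalW (eOf pres.gl (gF D))) := by
        rw [← h1]; exact List.mem_map.mpr ⟨r, hr, rfl⟩
      obtain ⟨w, hw, hwr⟩ := List.mem_map.mp h2
      have hltw : (pres.Rx.all fun w => w.all fun l => Nat.blt l 10) = true := by decide +kernel
      rw [SetLike.mem_coe, mem_comap, ← hwr, eval_gF D (List.all_eq_true.mp hltw w hw)]
      rw [Rx_cases, List.mem_cons, List.mem_singleton] at hw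
      rcases hw with rfl | rfl
      · rw [show (List.replicate 10 C31671.wordA).flatten = wR1 from rfl, eval_R1]
        exact one_mem _
      · exact mem_zpowers r2
  have hdec : ∀ y : Y, ∃ x, ∃ c ∈ center Y, Φ x * c = y := by
    intro y
    obtain ⟨x, hx⟩ := PresentedGroup.mk_surjective _ (D.π y)
    exact ⟨x, (Φ x)⁻¹ * y, D.central (by
      rw [MonoidHom.mem_ker, map_mul, map_inv, hπΦ, hx, inv_mul_cancel]), mul_inv_cancel_left _ _⟩
  have hcomm : commutator Y ≤ (commutator (FreeGroup Fi23.Gen)).map Φ := by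
    rw [commutator_def, Subgroup.commutator_le]
    intro a _ b _
    obtain ⟨x, c, hc, rfl⟩ := hdec a
    obtain ⟨x', c', hc', rfl⟩ := hdec b
    rw [commutatorElement_def, H74.Schur.commutatorElement_mul_central hc hc', ← commutatorElement_def,
      ← map_commutatorElement]
    exact mem_map_of_mem _ (commutator_mem_commutator (mem_top _) (mem_top _))
  have hzY : ι z ∈ commutator Y := by
    have h1 : (commutator Γ).map ι ≤ commutator Y := by
      rw [commutator_def, commutator_def, Subgroup.map_commutator]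
      exact Subgroup.commutator_mono le_top le_top
    exact h1 (mem_map_of_mem ι (hσ.2.2 (MonoidHom.mem_ker.2 hz)))
  obtain ⟨x, hx, hxz⟩ := hcomm hzY
  have hχ : D.χ (Φ x) = 1 := by
    have := Abelianization.commutator_subset_ker (D.χ.comp Φ) hx
    exact this
  obtain ⟨i, hi⟩ := hker x (by rw [← hπΦ, hxz, hπι, hz])
  have hcases : r2 ^ i = 1 ∨ r2 ^ i = r2 := by
    have h2 : r2 ^ (2 : ℤ) = 1 := by rw [zpow_two]; exact eval_R2_sq D
    obtain ⟨k, rfl | rfl⟩ : ∃ k, i = 2 * k ∨ i = 2 * k + 1 :=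
      ⟨i / 2, by omega⟩
    · left; rw [zpow_mul, h2, one_zpow]
    · right; rw [zpow_add, zpow_mul, h2, one_zpow, zpow_one, one_mul]
  apply hι
  rw [← hxz, ← hi, map_one]
  rcases hcases with h | h
  · exact h
  · exfalso
    rw [show Φ x = r2 from hi.symm.trans h, hr2, chi_eval D hlt2, hR2.2.2] at hχ
    exact absurd hχ (by decide)

theorem hasMultiplierOne : Cfsg.HasCyclicSchurMultiplier X 1 := by
  refine ⟨⟨X, inferInstance, bound_all.1, MonoidHom.id X, ⟨Function.surjective_id, ?_, ?_⟩, ?_⟩, ?_⟩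
  · rw [MonoidHom.ker_id]; exact bot_le
  · rw [MonoidHom.ker_id]; exact bot_le
  · rw [MonoidHom.ker_id]; exact ⟨MulEquiv.ofUnique⟩
  · intro Γ _ _ σ hσ
    exact ⟨1, fun z => ⟨1, Subtype.ext (ker_trivial hσ z z.2).symm⟩⟩

end Cfsg.Agent.H83.Fi23Mult
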